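import Cfsg.Agent.Lib.ImprimMax.Partition
import Cfsg.Agent.Lib.PermGp.AltIndex

/-!
Stabilisers of uniform partitions in alternating groups.
-/

set_option autoImplicit false

namespace Cfsg.Agent.ImprimMax

open MulAction Equiv Equiv.Perm
open scoped Pointwise

variable {Ω ι : Type*} [Fintype Ω] [DecidableEq Ω] [DecidableEq ι] [Fintype ι] {a : ℕ} {f : Ω → ι}

/-- The even elements of the partition stabiliser. -/
def evenFibreStab (f : Ω → ι) : Subgroup (Equiv.Perm Ω) := fibreStab f ⊓ alternatingGroup Ω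

theorem fibre_card (hf : ∀ i, Nat.card {x : Ω // f x = i} = a) (i : ι) :
    (Finset.univ.filter fun x => f x = i).card = a := by
  rw [← hf i, Nat.card_eq_fintype_card, Fintype.card_subtype]

theorem card_points (hf : ∀ i, Nat.card {x : Ω // f x = i} = a) :
    Fintype.card Ω = Fintype.card ι * a := by
  rw [← Fintype.card_congr (Equiv.sigmaFiberEquiv f), Fintype.card_sigma]
  simp [Fintype.card_subtype, fibre_card hf]

theorem exists_pair_in (hf : ∀ i, Nat.card {x : Ω // f x = i} = a) (i : ι) (T : Finset Ω)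
    (h : (T.filter fun x => f x = i).card + 2 ≤ a) :
    ∃ s t, f s = i ∧ f t = i ∧ s ≠ t ∧ s ∉ T ∧ t ∉ T := by
  have hc : 1 < ((Finset.univ.filter fun x => f x = i) \ T).card := by
    have h1 := Finset.card_sdiff_add_card_inter (Finset.univ.filter fun x => f x = i) T
    rw [fibre_card hf] at h1
    have h2 : (Finset.univ.filter fun x => f x = i) ∩ T = T.filter fun x => f x = i := by
      ext; simp [and_comm]
    rw [h2] at h1
    omega
  obtain ⟨s, hs, t, ht, hst⟩ := Finset.one_lt_card.mp hc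
  simp at hs ht
  exact ⟨s, t, hs.1, ht.1, hst, hs.2, ht.2⟩

theorem evenize {g : Equiv.Perm Ω} (hg : g ∈ fibreStab f) {s t : Ω} (hst : f s = f t) (hne : s ≠ t) :
    ∃ g' ∈ evenFibreStab f, (∀ z, g z ≠ s → g z ≠ t → g' z = g z) ∧ ∀ z, f (g' z) = f (g z) := by
  rcases Int.units_eq_one_or (Equiv.Perm.sign g) with h | h
  · exact ⟨g, ⟨hg, h⟩, fun z _ _ => rfl, fun z => rfl⟩
  · refine ⟨Equiv.swap s t * g, ⟨mul_mem (swap_mem_fibreStab hst) hg, ?_⟩,
      fun z h1 h2 => Equiv.swap_apply_of_ne_of_ne h1 h2, fun z => ?_⟩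
    · show Equiv.swap s t * g ∈ alternatingGroup Ω
      rw [Equiv.Perm.mem_alternatingGroup, map_mul, Equiv.Perm.sign_swap hne, h]
      rfl
    · rw [Perm.mul_apply]
      rcases eq_or_ne (g z) s with e | e
      · rw [e, Equiv.swap_apply_left, hst]
      rcases eq_or_ne (g z) t with e' | e'
      · rw [e', Equiv.swap_apply_right, hst]
      · rw [Equiv.swap_apply_of_ne_of_ne e e']

theorem swap_pair_mem {x y s t : Ω} (hxy : f x = f y) (hne : x ≠ y) (hst : f s = f t) (hne' : s ≠ t) :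
    Equiv.swap s t * Equiv.swap x y ∈ evenFibreStab f := by
  refine ⟨mul_mem (swap_mem_fibreStab hst) (swap_mem_fibreStab hxy), ?_⟩
  show Equiv.swap s t * Equiv.swap x y ∈ alternatingGroup Ω
  rw [Equiv.Perm.mem_alternatingGroup, map_mul, Equiv.Perm.sign_swap hne, Equiv.Perm.sign_swap hne']
  rfl

theorem even_move [Nontrivial ι] (hf : ∀ i, Nat.card {x : Ω // f x = i} = a) (ha : 2 ≤ a) (x y : Ω) :
    ∃ g ∈ evenFibreStab f, g x = y := by
  obtain ⟨g, hg, hgx⟩ : ∃ g ∈ fibreStab f, g x = y := by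
    by_cases hxy : f x = f y
    · exact ⟨_, swap_mem_fibreStab hxy, Equiv.swap_apply_left x y⟩
    let e : ∀ i, {x : Ω // f x = i} ≃ Fin a := fun i => Finite.equivFinOfCardEq (hf i)
    let σ := Equiv.swap (f x) (f y)
    let h : Equiv.Perm Ω := (Equiv.sigmaFiberEquiv f).symm.trans
      ((Equiv.sigmaCongr σ fun i => (e i).trans (e (σ i)).symm).trans (Equiv.sigmaFiberEquiv f))
    have hfh : ∀ x, f (h x) = σ (f x) := fun x =>
      ((e (σ (f x))).symm (e (f x) ⟨x, rfl⟩)).2
    have hh : h ∈ fibreStab f := fun u v => by rw [hfh, hfh, σ.injective.eq_iff]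
    have hσf : f (h x) = f y := by rw [hfh]; exact Equiv.swap_apply_left _ _
    exact ⟨Equiv.swap (h x) y * h, mul_mem (swap_mem_fibreStab hσf) hh, Equiv.swap_apply_left _ _⟩
  obtain ⟨i, hi⟩ := exists_ne (f y)
  obtain ⟨s, t, hs, ht, hst, -, -⟩ := exists_pair_in hf i ∅ (by simpa using ha)
  obtain ⟨g', hg', hfix, -⟩ := evenize hg (hs.trans ht.symm) hst
  refine ⟨g', hg', ?_⟩
  rw [hfix x (fun e => hi (by rw [← hs, ← e, hgx])) (fun e => hi (by rw [← ht, ← e, hgx])), hgx]

theorem exists_fix_move (hf : ∀ i, Nat.card {x : Ω // f x = i} = a) (ha : 2 ≤ a)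
    (hab : 3 ≤ a ∨ 3 ≤ Fintype.card ι) {x u w : Ω} (hxu : f x ≠ f u) (huw : f u = f w) :
    ∃ g ∈ evenFibreStab f, g x = x ∧ g u = w := by
  rcases eq_or_ne u w with rfl | hne
  · exact ⟨1, one_mem _, rfl, rfl⟩
  obtain ⟨s, t, hst, hne', hsx, htx, hsw, htw⟩ : ∃ s t, f s = f t ∧ s ≠ t ∧ s ≠ x ∧ t ≠ x ∧ s ≠ w ∧ t ≠ w := by
    rcases hab with h3 | h3
    · obtain ⟨s, t, hs, ht, hst, hs', ht'⟩ := exists_pair_in hf (f x) {x} (by
        have := Finset.card_filter_le ({x} : Finset Ω) (fun z => f z = f x)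
        simp at this ⊢; omega)
      simp at hs' ht'
      exact ⟨s, t, hs.trans ht.symm, hst, hs', ht', fun e => hxu (by rw [huw, ← e, hs]),
        fun e => hxu (by rw [huw, ← e, ht])⟩
    · obtain ⟨i, hi⟩ : ∃ i, i ∉ ({f x, f u} : Finset ι) := by
        by_contra hall
        push Not at hall
        have := Finset.card_le_two (a := f x) (b := f u)
        rw [Finset.eq_univ_iff_forall.mpr hall, Finset.card_univ] at this
        omega
      simp only [Finset.mem_insert, Finset.mem_singleton, not_or] at hi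
      obtain ⟨s, t, hs, ht, hst, -, -⟩ := exists_pair_in hf i ∅ (by simpa using ha)
      exact ⟨s, t, hs.trans ht.symm, hst, fun e => hi.1 (by rw [← hs, e]),
        fun e => hi.1 (by rw [← ht, e]), fun e => hi.2 (by rw [huw, ← hs, e]),
        fun e => hi.2 (by rw [huw, ← ht, e])⟩
  refine ⟨_, swap_pair_mem huw hne hst hne', ?_, ?_⟩
  · have hxu' : x ≠ u := fun e => hxu (by rw [e])
    have hxw : x ≠ w := fun e => hxu (by rw [e, huw])
    rw [Perm.mul_apply, Equiv.swap_apply_of_ne_of_ne hxu' hxw,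
      Equiv.swap_apply_of_ne_of_ne (Ne.symm hsx) (Ne.symm htx)]
  · rw [Perm.mul_apply, Equiv.swap_apply_left, Equiv.swap_apply_of_ne_of_ne (Ne.symm hsw) (Ne.symm htw)]

theorem preprimitive_of_evenFibreStab [Nontrivial ι] (hf : ∀ i, Nat.card {x : Ω // f x = i} = a)
    (ha : 2 ≤ a) (hab : 3 ≤ a ∨ 3 ≤ Fintype.card ι) {G : Subgroup (Equiv.Perm Ω)}
    (hW : evenFibreStab f ≤ G) (hnle : ¬ G ≤ fibreStab f) : IsPreprimitive G Ω := by
  have hGt : IsPretransitive G Ω := ⟨fun x y => by
    obtain ⟨g, hg, hgx⟩ := even_move hf ha x y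
    exact ⟨⟨g, hW hg⟩, hgx⟩⟩
  refine { hGt with isTrivialBlock_of_isBlock := fun {B} hB => ?_ }
  by_cases hsub : B.Subsingleton
  · exact Or.inl hsub
  right
  obtain ⟨x, hxB, y, hyB, hxy⟩ := Set.not_subsingleton_iff.1 hsub
  have hfix : ∀ h ∈ G, ∀ u ∈ B, h u ∈ B → ∀ v ∈ B, h v ∈ B := by
    intro h hh u hu hu' v hv
    have h1 : (⟨h, hh⟩ : G) • B = B := by
      rcases eq_or_ne ((⟨h, hh⟩ : G) • B) B with e | e
      · exact e
      · have h2 := hB (g₁ := (⟨h, hh⟩ : G)) (g₂ := 1) (by rwa [one_smul])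
        rw [one_smul] at h2
        exact absurd hu' (Set.disjoint_left.1 h2 ⟨u, hu, rfl⟩)
    rw [← h1]; exact ⟨v, hv, rfl⟩
  have hfull : ∀ u ∈ B, ∀ v ∈ B, u ≠ v → f u = f v → ∀ w, f w = f u → w ∈ B := by
    intro u hu v hv huv hfuv w hw
    rcases eq_or_ne w u with rfl | hwu
    · exact hu
    rcases eq_or_ne v w with rfl | hvw
    · exact hv
    obtain ⟨i, hi⟩ := exists_ne (f u)
    obtain ⟨s, t, hs, ht, hst, -, -⟩ := exists_pair_in hf i ∅ (by simpa using ha)
    have hm := hW (swap_pair_mem (show f v = f w by rw [hw, hfuv]) hvw (hs.trans ht.symm) hst)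
    have := hfix _ hm u hu (by
      rw [Perm.mul_apply, Equiv.swap_apply_of_ne_of_ne huv (Ne.symm hwu),
        Equiv.swap_apply_of_ne_of_ne (fun e => hi (by rw [← hs, ← e])) (fun e => hi (by rw [← ht, ← e]))]
      exact hu) v hv
    rwa [Perm.mul_apply, Equiv.swap_apply_left,
      Equiv.swap_apply_of_ne_of_ne (fun e => hi (by rw [← hs, ← e, hw]))
        (fun e => hi (by rw [← ht, ← e, hw]))] at this
  by_cases hcross : ∀ u ∈ B, f u = f x
  · exfalso
    have hBeq : B = {w | f w = f x} := Set.ext fun w =>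
      ⟨hcross w, fun hw => hfull x hxB y hyB hxy (hcross y hyB).symm w hw⟩
    have key : ∀ g ∈ G, ∀ u v, f u = f v → f (g u) = f (g v) := by
      intro g hg u v huv
      obtain ⟨h, hh, hhx⟩ := even_move hf ha x u
      obtain ⟨k, hk, hkx⟩ := even_move hf ha (g u) x
      have hm : k * g * h ∈ G := mul_mem (mul_mem (hW hk) hg) (hW hh)
      have hxx : (k * g * h) x = x := by simp [hhx, hkx]
      have hv' : h⁻¹ v ∈ B := by
        rw [hBeq]
        show f (h⁻¹ v) = f x
        exact ((hh.1 x (h⁻¹ v)).2 (by rw [hhx, Perm.coe_inv, Equiv.apply_symm_apply, huv])).symm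
      have h2 := hfix _ hm x hxB (by rwa [hxx]) _ hv'
      rw [Perm.mul_apply, Perm.mul_apply, Perm.coe_inv, Equiv.apply_symm_apply, hBeq] at h2
      refine (hk.1 (g u) (g v)).2 ?_
      rw [hkx]; exact (h2 : f (k (g v)) = f x).symm
    refine hnle fun g hg u v => ⟨key g hg u v, fun h => ?_⟩
    simpa using key g⁻¹ (inv_mem hg) (g u) (g v) h
  push Not at hcross
  obtain ⟨z, hzB, hzx⟩ := hcross
  have hmeet : ∀ w, f w ≠ f x → w ∈ B := by
    intro w hw
    obtain ⟨h, hh, hhx, hhf⟩ := exists_relabel hf (Equiv.swap (f z) (f w)) x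
      (Equiv.swap_apply_of_ne_of_ne (Ne.symm hzx) (Ne.symm hw))
    obtain ⟨s, hs, hsne⟩ := exists_other hf ha w
    obtain ⟨h', hh', hfix', hf'⟩ := evenize hh hs hsne
    have hx' : h' x = x := by
      rw [hfix' x (fun e => hw (by rw [← hhx, e, hs])) (fun e => hw (by rw [← hhx, e])), hhx]
    have h1 : f (h' z) = f w := by rw [hf', hhf, Equiv.swap_apply_left]
    have h2 : h' z ∈ B := hfix h' (hW hh') x hxB (by rwa [hx']) z hzB
    obtain ⟨k, hk, hkx, hkz⟩ := exists_fix_move hf ha hab (x := x) (by rw [h1]; exact Ne.symm hw) h1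
    rw [← hkz]
    exact hfix k (hW hk) x hxB (by rwa [hkx]) _ h2
  refine Set.eq_univ_iff_forall.2 fun w => ?_
  by_cases hw : f w = f x
  · obtain ⟨k, hk, hkz, hkx⟩ := exists_fix_move hf ha hab (x := z) hzx hw.symm
    rw [← hkx]
    exact hfix k (hW hk) z hzB (by rwa [hkz]) _ hxB
  · exact hmeet w hw

theorem comm_three_cycle {G : Subgroup (Equiv.Perm Ω)} {p q r s s' u u' : Ω}
    (h1 : Equiv.swap p q * Equiv.swap s s' ∈ G) (h2 : Equiv.swap p r * Equiv.swap u u' ∈ G)
    (hpq : p ≠ q) (hpr : p ≠ r) (hqr : q ≠ r)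
    (hs : s ≠ p ∧ s ≠ q ∧ s ≠ r) (hs' : s' ≠ p ∧ s' ≠ q ∧ s' ≠ r)
    (hu : u ≠ p ∧ u ≠ q ∧ u ≠ r ∧ u ≠ s ∧ u ≠ s') (hu' : u' ≠ p ∧ u' ≠ q ∧ u' ≠ r ∧ u' ≠ s ∧ u' ≠ s') :
    ∃ c ∈ G, IsThreeCycle c := by
  set σ := Equiv.swap p q * Equiv.swap s s'
  set τ := Equiv.swap p r * Equiv.swap u u'
  have sp : σ p = q := by
    simp [σ, Equiv.swap_apply_of_ne_of_ne (Ne.symm hs.1) (Ne.symm hs'.1)]
  have sr : σ r = r := by
    simp [σ, Equiv.swap_apply_of_ne_of_ne (Ne.symm hs.2.2) (Ne.symm hs'.2.2),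
      Equiv.swap_apply_of_ne_of_ne hpr.symm hqr.symm]
  have su : σ u = u := by
    simp [σ, Equiv.swap_apply_of_ne_of_ne hu.2.2.2.1 hu.2.2.2.2,
      Equiv.swap_apply_of_ne_of_ne hu.1 hu.2.1]
  have su' : σ u' = u' := by
    simp [σ, Equiv.swap_apply_of_ne_of_ne hu'.2.2.2.1 hu'.2.2.2.2,
      Equiv.swap_apply_of_ne_of_ne hu'.1 hu'.2.1]
  refine ⟨σ * τ * σ⁻¹ * τ⁻¹, mul_mem (mul_mem (mul_mem h1 h2) (inv_mem h1)) (inv_mem h2), ?_⟩
  have hconj : σ * τ * σ⁻¹ = Equiv.swap q r * Equiv.swap u u' := by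
    calc σ * τ * σ⁻¹ = (σ * Equiv.swap p r * σ⁻¹) * (σ * Equiv.swap u u' * σ⁻¹) := by
          simp only [τ]; group
      _ = _ := by rw [← Equiv.swap_apply_apply, ← Equiv.swap_apply_apply, sp, sr, su, su']
  rw [hconj]
  have : Equiv.swap q r * Equiv.swap u u' * τ⁻¹ = Equiv.swap r q * Equiv.swap r p := by
    simp only [τ, mul_inv_rev, Equiv.swap_inv]
    rw [mul_assoc, ← mul_assoc (Equiv.swap u u'), Equiv.swap_mul_self, one_mul, Equiv.swap_comm q r,
      Equiv.swap_comm p r]
  rw [this]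
  exact isThreeCycle_swap_mul_swap_same hqr.symm hpr.symm hpq.symm

theorem three_cycle_of_pairs [Nontrivial ι] (hf : ∀ i, Nat.card {x : Ω // f x = i} = 2)
    (hb : 5 ≤ Fintype.card ι)
    {G : Subgroup (Equiv.Perm Ω)} (hW : evenFibreStab f ≤ G) (hnle : ¬ G ≤ fibreStab f) :
    ∃ c ∈ G, IsThreeCycle c := by
  obtain ⟨g, hg, hgW⟩ := SetLike.not_le_iff_exists.mp hnle
  have uniq : ∀ {x y z : Ω}, f y = f x → y ≠ x → f z = f x → z ≠ x → z = y := by
    intro x y z hy hyx hz hzx
    by_contra hzy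
    have h := fibre_card hf (f x)
    have : ({x, y, z} : Finset Ω).card ≤ 2 := by
      rw [← h]; exact Finset.card_le_card (fun w hw => by
        simp at hw ⊢; rcases hw with rfl | rfl | rfl <;> simp [hy, hz])
    rw [Finset.card_insert_of_notMem (by simp [Ne.symm hyx, Ne.symm hzx]),
      Finset.card_insert_of_notMem (by simp [Ne.symm hzy]), Finset.card_singleton] at this
    omega
  obtain ⟨a₀, a₁, ha0, hne, hsplit⟩ : ∃ x y, f x = f y ∧ x ≠ y ∧ f (g x) ≠ f (g y) := by
    by_contra hall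
    push Not at hall
    apply hgW
    have hone : ∀ x y, f x = f y → f (g x) = f (g y) := fun x y h => by
      rcases eq_or_ne x y with rfl | hxy
      · rfl
      · exact hall x y h hxy
    intro x y
    refine ⟨hone x y, fun h => ?_⟩
    by_contra hne
    obtain ⟨x', hx', hxx⟩ := exists_other hf le_rfl x
    have h1 := hone x' x hx'
    have h2 := uniq h1 (g.injective.ne hxx) h.symm (g.injective.ne fun e => hne (by rw [e]))
    exact hne (by rw [← hx', g.injective h2])
  set p := g a₀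
  set r := g a₁
  have hpr : p ≠ r := g.injective.ne hne
  obtain ⟨q, hq, hqp⟩ := exists_other hf le_rfl p
  have hqr : q ≠ r := fun e => hsplit (by show f p = f r; rw [← e, hq])
  obtain ⟨i, hi⟩ : ∃ i, i ∉ ({f p, f r} : Finset ι) := by
    by_contra hall
    push Not at hall
    have := Finset.card_le_two (a := f p) (b := f r)
    rw [Finset.eq_univ_iff_forall.mpr hall, Finset.card_univ] at this
    omega
  simp only [Finset.mem_insert, Finset.mem_singleton, not_or] at hi
  obtain ⟨s, s', hs, hs', hss, -, -⟩ := exists_pair_in hf i ∅ (by simp)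
  obtain ⟨j, hj⟩ : ∃ j, j ∉ ({f a₀, f (g.symm q), f (g.symm s), f (g.symm s')} : Finset ι) := by
    by_contra hall
    push Not at hall
    have h4 : ({f a₀, f (g.symm q), f (g.symm s), f (g.symm s')} : Finset ι).card ≤ 4 :=
      Finset.card_le_four
    rw [Finset.eq_univ_iff_forall.mpr hall, Finset.card_univ] at h4
    omega
  simp only [Finset.mem_insert, Finset.mem_singleton, not_or] at hj
  obtain ⟨w, w', hw, hw', hww, -, -⟩ := exists_pair_in hf j ∅ (by simp)
  have h1 : Equiv.swap p q * Equiv.swap s s' ∈ G :=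
    hW (swap_pair_mem (hs.trans hs'.symm) hss hq.symm hqp.symm)
  have h2 : Equiv.swap p r * Equiv.swap (g w) (g w') ∈ G := by
    have := mul_mem (mul_mem hg (hW (swap_pair_mem (hw.trans hw'.symm) hww ha0 hne))) (inv_mem hg)
    have e : g * (Equiv.swap a₀ a₁ * Equiv.swap w w') * g⁻¹ =
        Equiv.swap p r * Equiv.swap (g w) (g w') := by
      show _ = Equiv.swap (g a₀) (g a₁) * _
      rw [Equiv.swap_apply_apply, Equiv.swap_apply_apply]; group
    rwa [e] at this
  refine comm_three_cycle h1 h2 hqp.symm hpr hqr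
    ⟨fun e => hi.1 (by rw [← hs, e]), fun e => hi.1 (by rw [← hs, e, hq]), fun e => hi.2 (by rw [← hs, e])⟩
    ⟨fun e => hi.1 (by rw [← hs', e]), fun e => hi.1 (by rw [← hs', e, hq]), fun e => hi.2 (by rw [← hs', e])⟩
    ?_ ?_
  · exact ⟨fun e => hj.1 (by rw [← hw, g.injective e]), fun e => hj.2.1 (by rw [← hw, ← e, Equiv.symm_apply_apply]),
      fun e => hj.1 (by rw [← hw, g.injective e, ha0]), fun e => hj.2.2.1 (by rw [← hw, ← e, Equiv.symm_apply_apply]),
      fun e => hj.2.2.2 (by rw [← hw, ← e, Equiv.symm_apply_apply])⟩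
  · exact ⟨fun e => hj.1 (by rw [← hw', g.injective e]), fun e => hj.2.1 (by rw [← hw', ← e, Equiv.symm_apply_apply]),
      fun e => hj.1 (by rw [← hw', g.injective e, ha0]), fun e => hj.2.2.1 (by rw [← hw', ← e, Equiv.symm_apply_apply]),
      fun e => hj.2.2.2 (by rw [← hw', ← e, Equiv.symm_apply_apply])⟩

theorem fibreStab_eq_centralizer (hf : ∀ i, Nat.card {x : Ω // f x = i} = 2) :
    ∃ π : Equiv.Perm Ω, fibreStab f = Subgroup.centralizer {π} ∧
      π.cycleType = Multiset.replicate (Fintype.card ι) 2 := by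
  classical
  choose o ho hone using exists_other hf le_rfl
  have uniq : ∀ {x z : Ω}, f z = f x → z ≠ x → z = o x := by
    intro x z hz hzx
    by_contra hzy
    have h := fibre_card hf (f x)
    have : ({x, o x, z} : Finset Ω).card ≤ 2 := by
      rw [← h]; exact Finset.card_le_card (fun w hw => by
        simp at hw ⊢; rcases hw with rfl | rfl | rfl <;> simp [ho, hz])
    rw [Finset.card_insert_of_notMem (by simp [Ne.symm (hone x), Ne.symm hzx]),
      Finset.card_insert_of_notMem (by simp [Ne.symm hzy]), Finset.card_singleton] at this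
    omega
  have hinv : Function.Involutive o := fun x => (uniq (x := o x) (ho x).symm (hone x).symm).symm
  set π := hinv.toPerm o
  have hπ : ∀ x, π x = o x := fun x => rfl
  refine ⟨π, ?_, ?_⟩
  · ext g
    rw [Subgroup.mem_centralizer_singleton_iff, mem_fibreStab]
    constructor
    · intro h
      ext x
      simp only [Perm.mul_apply, hπ]
      exact uniq ((h (o x) x).1 (ho x)) (g.injective.ne (hone x))
    · intro h x y
      have hc : ∀ x, g (o x) = o (g x) := fun x => Equiv.congr_fun h x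
      constructor
      · intro hxy
        rcases eq_or_ne y x with rfl | hne
        · rfl
        · rw [uniq hxy.symm hne, hc, ho]
      · intro hxy
        rcases eq_or_ne (g y) (g x) with e | hne
        · rw [g.injective e]
        · have := uniq hxy.symm hne
          rw [← hc] at this
          rw [g.injective this, ho]
  · have h2 : π ^ 2 = 1 := by
      ext x; simp [pow_two, hπ, hinv x]
    haveI : Fact (Nat.Prime 2) := ⟨Nat.prime_two⟩
    have hrep := cycleType_of_pow_prime_eq_one h2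
    have hsum := sum_cycleType π
    have hsupp : π.support = Finset.univ := by
      ext x; simp [hπ, hone x]
    rw [hsupp, Finset.card_univ, card_points hf, hrep, Multiset.sum_replicate, smul_eq_mul] at hsum
    rw [hrep]
    congr 1
    omega

theorem two_mul_card_even (hf : ∀ i, Nat.card {x : Ω // f x = i} = a) (ha : 2 ≤ a) [Nonempty ι] :
    2 * Nat.card (evenFibreStab f) = Nat.card (fibreStab f) := by
  set S : Subgroup (fibreStab f) := (Equiv.Perm.sign.comp (fibreStab f).subtype).ker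
  have heq : evenFibreStab f = S.map (fibreStab f).subtype := by
    ext g
    constructor
    · rintro ⟨hg, he⟩
      exact ⟨⟨g, hg⟩, he, rfl⟩
    · rintro ⟨h, hh, rfl⟩
      exact ⟨h.2, hh⟩
  rw [heq, Subgroup.card_map_of_injective (fibreStab f).subtype_injective, ← S.card_mul_index, mul_comm]
  congr 1
  obtain ⟨s, t, hs, ht, hst, -, -⟩ := exists_pair_in hf (Classical.arbitrary ι) ∅ (by simpa using ha)
  have hsurj : Function.Surjective (Equiv.Perm.sign.comp (fibreStab f).subtype) := by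
    intro u
    rcases Int.units_eq_one_or u with rfl | rfl
    · exact ⟨1, map_one _⟩
    · exact ⟨⟨_, swap_mem_fibreStab (hs.trans ht.symm)⟩, Equiv.Perm.sign_swap hst⟩
  rw [Subgroup.index_ker, MonoidHom.range_eq_top.mpr hsurj, Subgroup.card_top]
  simp [Nat.card_eq_fintype_card, Fintype.card_units_int]

theorem small_case (hf : ∀ i, Nat.card {x : Ω // f x = i} = 2) [Nontrivial ι]
    (hb : Fintype.card ι = 2 ∨ Fintype.card ι = 3) {G : Subgroup (Equiv.Perm Ω)}
    (hW : evenFibreStab f ≤ G) (hGA : G ≤ alternatingGroup Ω) (hne : G ≠ evenFibreStab f) :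
    alternatingGroup Ω ≤ G := by
  obtain ⟨π, hcen, hct⟩ := fibreStab_eq_centralizer hf
  have hcW : Nat.card (fibreStab f) = 2 ^ Fintype.card ι * (Fintype.card ι).factorial := by
    rw [hcen, nat_card_centralizer, hct, card_points hf]
    simp [Multiset.toFinset_replicate, Fintype.card_ne_zero, Multiset.count_replicate_self]
  have h2 := two_mul_card_even hf le_rfl
  have hn := card_points hf
  haveI : Nontrivial Ω := Fintype.one_lt_card_iff_nontrivial.mp (by rw [hn]; omega)
  have hA : 2 * Nat.card (alternatingGroup Ω) = (Fintype.card ι * 2).factorial := by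
    rw [← hn, ← Fintype.card_perm, Nat.card_eq_fintype_card]
    exact two_mul_card_alternatingGroup
  have hd1 := Subgroup.card_dvd_of_le hW
  have hd2 := Subgroup.card_dvd_of_le hGA
  have hgt : Nat.card (evenFibreStab f) < Nat.card G := by
    refine lt_of_le_of_ne (Nat.le_of_dvd Nat.card_pos hd1) fun h => hne ?_
    exact (Subgroup.eq_of_le_of_card_ge hW h.ge).symm
  obtain ⟨c, hc⟩ := hd1
  rw [hcW] at h2
  have hge : Nat.card (alternatingGroup Ω) ≤ Nat.card G := by
    by_contra hlt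
    have hbd : Fintype.card ι = 3 → 2 * Fintype.card Ω * Nat.card G ≤ (Fintype.card Ω).factorial :=
      fun hb => PermGp.card_le_of_le_alternating (by rw [hn, hb]; norm_num) hGA
        (fun h => hlt (by rw [h]))
    rw [hn] at hbd
    generalize Nat.card (evenFibreStab f) = cW at *
    generalize Nat.card (alternatingGroup Ω) = cA at *
    generalize Nat.card G = cG at *
    obtain ⟨d, rfl⟩ := hd2
    subst hc
    rcases hb with hb | hb
    · rw [hb] at h2 hA
      norm_num [Nat.factorial] at h2 hA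
      obtain rfl : cW = 4 := by omega
      have hd12 : 4 * c * d = 12 := by omega
      have hc2 : 2 ≤ c := by omega
      have hd1 : d ≠ 0 := fun h => by rw [h, mul_zero] at hd12; omega
      have hd2 : d ≠ 1 := fun h => by rw [h, mul_one] at hlt; omega
      have : 4 * c * 2 ≤ 4 * c * d := Nat.mul_le_mul_left _ (by omega)
      omega
    · have hbd := hbd hb
      rw [hb] at h2 hA hbd
      norm_num [Nat.factorial] at h2 hA hbd
      obtain rfl : cW = 24 := by omega
      have hd360 : 24 * c * d = 360 := by omega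
      have : c = 2 := by omega
      subst this
      omega
  rw [Subgroup.eq_of_le_of_card_ge hGA hge]

/-- The even stabiliser of a uniform partition is maximal unless the degree is eight. -/
theorem even_coatom [Nontrivial ι] (hf : ∀ i, Nat.card {x : Ω // f x = i} = a) (ha : 2 ≤ a)
    (h8 : Fintype.card Ω ≠ 8) :
    IsCoatom ((evenFibreStab f).subgroupOf (alternatingGroup Ω)) := by
  obtain ⟨i₀, i₁, hi⟩ := exists_pair_ne ι
  obtain ⟨x, x', hx, hx', hxx, -, -⟩ := exists_pair_in hf i₀ ∅ (by simpa using ha)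
  obtain ⟨y, y', hy, hy', hyy, -, -⟩ := exists_pair_in hf i₁ ∅ (by simpa using ha)
  have hxy : x ≠ y := fun e => hi (by rw [← hx, e, hy])
  have hx'y : x' ≠ y := fun e => hi (by rw [← hx', e, hy])
  refine ⟨fun htop => ?_, fun K hK => ?_⟩
  · have hmem : Equiv.swap x y * Equiv.swap x x' ∈ alternatingGroup Ω := by
      rw [Equiv.Perm.mem_alternatingGroup, map_mul, Equiv.Perm.sign_swap hxy, Equiv.Perm.sign_swap hxx]
      rfl
    have h1 : Equiv.swap x y * Equiv.swap x x' ∈ evenFibreStab f := Subgroup.mem_subgroupOf.mp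
      (htop.symm ▸ Subgroup.mem_top (⟨_, hmem⟩ : alternatingGroup Ω))
    have := (mem_fibreStab.1 h1.1 x x').1 (hx.trans hx'.symm)
    simp [Equiv.swap_apply_of_ne_of_ne hxx.symm hx'y, hy, hx'] at this
    exact hi this
  set G := K.map (alternatingGroup Ω).subtype
  have hGA : G ≤ alternatingGroup Ω := Subgroup.map_subtype_le K
  have hW : evenFibreStab f ≤ G := fun g hg =>
    ⟨⟨g, hg.2⟩, hK.le (Subgroup.mem_subgroupOf.mpr hg), rfl⟩
  have hne : G ≠ evenFibreStab f := fun h => hK.ne' (by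
    rw [← h]
    ext k
    simp [G, Subgroup.mem_subgroupOf])
  have hnle : ¬ G ≤ fibreStab f := fun h => hne (le_antisymm (le_inf h hGA) hW)
  suffices alternatingGroup Ω ≤ G by
    rw [eq_top_iff]
    intro k _
    obtain ⟨k', hk', he⟩ := this k.2
    exact Subtype.ext he ▸ hk'
  by_cases hsmall : a = 2 ∧ (Fintype.card ι = 2 ∨ Fintype.card ι = 3)
  · obtain ⟨rfl, hb⟩ := hsmall
    exact small_case hf hb hW hGA hne
  have hb1 : 1 < Fintype.card ι := Fintype.one_lt_card
  have hn := card_points hf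
  have hab : 3 ≤ a ∨ 3 ≤ Fintype.card ι := by
    by_contra hh; push Not at hh; exact hsmall ⟨by omega, by omega⟩
  have hprim := preprimitive_of_evenFibreStab hf ha hab hW hnle
  obtain ⟨c, hc, hc3⟩ : ∃ c ∈ G, IsThreeCycle c := by
    by_cases h3 : 3 ≤ a
    · obtain ⟨w, w', hw, hw', hww, hwx, hw'x⟩ := exists_pair_in hf i₀ {x} (by
        have := Finset.card_filter_le ({x} : Finset Ω) (fun z => f z = i₀)
        simp at this ⊢; omega)
      simp at hwx hw'x
      exact ⟨_, hW (swap_pair_mem (hx.trans hw'.symm) (Ne.symm hw'x) (hx.trans hw.symm) (Ne.symm hwx)),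
        isThreeCycle_swap_mul_swap_same (Ne.symm hwx) (Ne.symm hw'x) hww⟩
    · obtain rfl : a = 2 := by omega
      exact three_cycle_of_pairs hf (by omega) hW hnle
  exact alternatingGroup_le_of_isPreprimitive_of_isThreeCycle_mem hprim hc3 hc

end Cfsg.Agent.ImprimMax
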