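import Cfsg.Agent.Lib.ImprimMax.Partition

/-!
In degree eight the even stabiliser of a partition into pairs lies in an affine group.
-/

set_option autoImplicit false

namespace Cfsg.Agent.ImprimMax

open Equiv Equiv.Perm

/-- The labels as a plane over two elements. -/
def labVec : Fin 4 → Fin 2 × Fin 2 := ![(0, 0), (0, 1), (1, 0), (1, 1)]

/-- Four points of the affine space sum to zero. -/
def quadRel (a b c d : Fin 4 × Fin 2) : Prop :=
  labVec a.1 + labVec b.1 + labVec c.1 + labVec d.1 = 0 ∧ a.2 + b.2 + c.2 + d.2 = 0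

theorem labels_shape : ∀ a b c d : Fin 4, labVec a + labVec b + labVec c + labVec d = 0 ↔
    (a = b ∧ c = d) ∨ (a = c ∧ b = d) ∨ (a = d ∧ b = c) ∨
      (a ≠ b ∧ a ≠ c ∧ a ≠ d ∧ b ≠ c ∧ b ≠ d ∧ c ≠ d) := by
  decide +kernel

theorem labels_eps : ∀ (ε : Fin 4 → Fin 2), ε 0 + ε 1 + ε 2 + ε 3 = 0 → ∀ a b c d : Fin 4,
    labVec a + labVec b + labVec c + labVec d = 0 → ε a + ε b + ε c + ε d = 0 := by
  decide +kernel

theorem even_wreath_quadRel {g : Equiv.Perm (Fin 4 × Fin 2)}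
    (hg : ∀ x y : Fin 4 × Fin 2, x.1 = y.1 ↔ (g x).1 = (g y).1) (hs : Equiv.Perm.sign g = 1)
    {a b c d : Fin 4 × Fin 2} (h : quadRel a b c d) : quadRel (g a) (g b) (g c) (g d) := by
  classical
  have hlab : ∀ i j, (g (i, j)).1 = (g (i, 0)).1 := fun i j => (hg (i, j) (i, 0)).1 rfl
  have hinj : Function.Injective fun i => (g (i, 0)).1 := fun i k e => (hg (i, 0) (k, 0)).2 e
  set σ : Equiv.Perm (Fin 4) := Equiv.ofBijective _ ⟨hinj, Finite.injective_iff_surjective.mp hinj⟩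
  set ε : Fin 4 → Fin 2 := fun i => (g (i, 0)).2
  have hsnd : ∀ i j, (g (i, j)).2 = ε i + j := by
    intro i j
    rcases (show ∀ j : Fin 2, j = 0 ∨ j = 1 by decide) j with rfl | rfl
    · simp [ε]
    · have hne : (g (i, 1)).2 ≠ (g (i, 0)).2 := fun e => by
        have : g (i, 1) = g (i, 0) := Prod.ext (hlab i 1) e
        have := g.injective this
        simp at this
      revert hne
      show (g (i, 1)).2 ≠ (g (i, 0)).2 → (g (i, 1)).2 = (g (i, 0)).2 + 1
      generalize (g (i, 1)).2 = u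
      generalize (g (i, 0)).2 = v
      revert u v
      decide
  have heq : g = (Equiv.prodCongrLeft fun _ : Fin 2 => σ) *
      (Equiv.prodCongrRight fun i : Fin 4 => Equiv.addLeft (ε i)) := by
    refine Equiv.ext fun ⟨i, j⟩ => ?_
    simp only [Perm.mul_apply, Equiv.prodCongrRight_apply, Equiv.prodCongrLeft_apply,
      Equiv.coe_addLeft]
    exact Prod.ext (hlab i j) (hsnd i j)
  have hsum : ε 0 + ε 1 + ε 2 + ε 3 = 0 := by
    rw [heq, map_mul, Equiv.Perm.sign_prodCongrLeft, Equiv.Perm.sign_prodCongrRight, Fin.prod_univ_two,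
      Int.units_mul_self, one_mul, Fin.prod_univ_four] at hs
    have key : ∀ u v w z : Fin 2, Equiv.Perm.sign (Equiv.addLeft u) * Equiv.Perm.sign (Equiv.addLeft v) *
        Equiv.Perm.sign (Equiv.addLeft w) * Equiv.Perm.sign (Equiv.addLeft z) = 1 → u + v + w + z = 0 := by
      decide +kernel
    exact key _ _ _ _ hs
  refine ⟨?_, ?_⟩
  · rw [hlab a.1 a.2, hlab b.1 b.2, hlab c.1 c.2, hlab d.1 d.2]
    show labVec (σ a.1) + labVec (σ b.1) + labVec (σ c.1) + labVec (σ d.1) = 0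
    rw [labels_shape]
    rcases (labels_shape _ _ _ _).1 h.1 with ⟨h1, h2⟩ | ⟨h1, h2⟩ | ⟨h1, h2⟩ | ⟨h1, h2, h3, h4, h5, h6⟩
    · exact Or.inl ⟨congrArg σ h1, congrArg σ h2⟩
    · exact Or.inr (Or.inl ⟨congrArg σ h1, congrArg σ h2⟩)
    · exact Or.inr (Or.inr (Or.inl ⟨congrArg σ h1, congrArg σ h2⟩))
    · exact Or.inr (Or.inr (Or.inr ⟨σ.injective.ne h1, σ.injective.ne h2, σ.injective.ne h3,
        σ.injective.ne h4, σ.injective.ne h5, σ.injective.ne h6⟩))
  · rw [hsnd a.1 a.2, hsnd b.1 b.2, hsnd c.1 c.2, hsnd d.1 d.2]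
    have h1 := labels_eps ε hsum _ _ _ _ h.1
    calc (ε a.1 + a.2) + (ε b.1 + b.2) + (ε c.1 + c.2) + (ε d.1 + d.2)
        = (ε a.1 + ε b.1 + ε c.1 + ε d.1) + (a.2 + b.2 + c.2 + d.2) := by abel
      _ = 0 := by rw [h1, h.2, zero_add]

variable {Ω : Type*} [Fintype Ω] [DecidableEq Ω]

/-- The permutations preserving the affine structure given by the coordinates `φ`. -/
def affineStab (φ : Ω ≃ Fin 4 × Fin 2) : Subgroup (Equiv.Perm Ω) where
  carrier := {g | ∀ a b c d, quadRel (φ a) (φ b) (φ c) (φ d) ↔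
    quadRel (φ (g a)) (φ (g b)) (φ (g c)) (φ (g d))}
  one_mem' _ _ _ _ := Iff.rfl
  mul_mem' {g h} hg hh a b c d := (hh a b c d).trans (hg (h a) (h b) (h c) (h d))
  inv_mem' {g} hg a b c d := by
    have := hg (g⁻¹ a) (g⁻¹ b) (g⁻¹ c) (g⁻¹ d)
    simp only [Perm.coe_inv, Equiv.apply_symm_apply] at this
    exact this.symm

theorem evenStab_le_affineStab {f : Ω → Fin 4} (φ : Ω ≃ Fin 4 × Fin 2) (hφ : ∀ x, (φ x).1 = f x) :
    fibreStab f ⊓ alternatingGroup Ω ≤ affineStab φ := by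
  have one : ∀ g ∈ fibreStab f ⊓ alternatingGroup Ω, ∀ a b c d, quadRel (φ a) (φ b) (φ c) (φ d) →
      quadRel (φ (g a)) (φ (g b)) (φ (g c)) (φ (g d)) := by
    intro g hg a b c d h
    have h1 := even_wreath_quadRel (g := φ.permCongr g)
      (fun x y => by
        have := hg.1 (φ.symm x) (φ.symm y)
        simp only [← hφ, Equiv.apply_symm_apply] at this
        simpa [Equiv.permCongr_apply] using this)
      (by rw [Equiv.Perm.sign_permCongr]; exact hg.2) h
    simpa [Equiv.permCongr_apply] using h1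
  intro g hg a b c d
  refine ⟨one g hg a b c d, fun h => ?_⟩
  simpa using one g⁻¹ (inv_mem hg) _ _ _ _ h

theorem not_coatom_pairs_eight {f : Ω → Fin 4} (hf : ∀ i, Nat.card {x : Ω // f x = i} = 2) :
    ¬ IsCoatom ((fibreStab f ⊓ alternatingGroup Ω).subgroupOf (alternatingGroup Ω)) := by
  classical
  let φ : Ω ≃ Fin 4 × Fin 2 := (Equiv.sigmaFiberEquiv f).symm.trans
    ((Equiv.sigmaCongrRight fun i => Finite.equivFinOfCardEq (hf i)).trans (Equiv.sigmaEquivProd _ _))
  have hφ : ∀ x, (φ x).1 = f x := fun x => rfl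
  intro hco
  let p : Fin 4 → Fin 2 → Ω := fun i j => φ.symm (i, j)
  have hp : ∀ i j k l, (i, j) ≠ (k, l) → p i j ≠ p k l := fun i j k l h e => h (φ.symm.injective e)
  set t : Equiv.Perm Ω := Equiv.swap (p 0 1) (p 1 0) * Equiv.swap (p 2 1) (p 3 0)
  have htA : t ∈ alternatingGroup Ω := by
    rw [Equiv.Perm.mem_alternatingGroup, map_mul, Equiv.Perm.sign_swap (hp _ _ _ _ (by decide)),
      Equiv.Perm.sign_swap (hp _ _ _ _ (by decide))]
    rfl
  set c : Equiv.Perm Ω := Equiv.swap (p 1 1) (p 2 0) * Equiv.swap (p 1 1) (p 3 0)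
  have hcA : c ∈ alternatingGroup Ω := by
    rw [Equiv.Perm.mem_alternatingGroup, map_mul, Equiv.Perm.sign_swap (hp _ _ _ _ (by decide)),
      Equiv.Perm.sign_swap (hp _ _ _ _ (by decide))]
    rfl
  have hconj : ∀ (x y : Ω), φ.permCongr (Equiv.swap x y) = Equiv.swap (φ x) (φ y) := fun x y => by
    refine Equiv.ext fun z => ?_
    rw [Equiv.permCongr_apply, ← φ.injective.swap_apply, Equiv.apply_symm_apply]
  have htq : ∀ a, φ (t a) = (Equiv.swap ((0 : Fin 4), (1 : Fin 2)) (1, 0) *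
      Equiv.swap ((2 : Fin 4), (1 : Fin 2)) (3, 0)) (φ a) := fun a => by
    simp [t, p, φ.injective.map_swap]
  have hcq : ∀ a, φ (c a) = (Equiv.swap ((1 : Fin 4), (1 : Fin 2)) (2, 0) *
      Equiv.swap ((1 : Fin 4), (1 : Fin 2)) (3, 0)) (φ a) := fun a => by
    simp [c, p, φ.injective.map_swap]
  have hrel : ∀ a b c d : Fin 4 × Fin 2,
      (let u := Equiv.swap ((0 : Fin 4), (1 : Fin 2)) (1, 0) * Equiv.swap ((2 : Fin 4), (1 : Fin 2)) (3, 0)
      (labVec a.1 + labVec b.1 + labVec c.1 + labVec d.1 = 0 ∧ a.2 + b.2 + c.2 + d.2 = 0) ↔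
      (labVec (u a).1 + labVec (u b).1 + labVec (u c).1 + labVec (u d).1 = 0 ∧
        (u a).2 + (u b).2 + (u c).2 + (u d).2 = 0)) := by
    decide +kernel
  have hle : (fibreStab f ⊓ alternatingGroup Ω).subgroupOf (alternatingGroup Ω) ≤
      (affineStab φ).subgroupOf (alternatingGroup Ω) := fun g hg =>
    evenStab_le_affineStab φ hφ hg
  rcases hco.le_iff.mp hle with h | h
  · have : (⟨c, hcA⟩ : alternatingGroup Ω) ∈ (affineStab φ).subgroupOf (alternatingGroup Ω) := by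
      rw [h]; exact Subgroup.mem_top _
    have h2 := (Subgroup.mem_subgroupOf.mp this (p 0 0) (p 0 1) (p 1 0) (p 1 1)).1
      (by simp only [p, Equiv.apply_symm_apply, quadRel]; decide)
    simp only [hcq, p, Equiv.apply_symm_apply, quadRel] at h2
    revert h2
    decide +kernel
  · have ht : (⟨t, htA⟩ : alternatingGroup Ω) ∈ (affineStab φ).subgroupOf (alternatingGroup Ω) := by
      rw [Subgroup.mem_subgroupOf]
      intro a b c d
      simp only [htq, quadRel]
      exact hrel _ _ _ _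
    rw [h] at ht
    have h2 := ((Subgroup.mem_subgroupOf.mp ht).1 (p 0 0) (p 0 1)).1 (by simp [← hφ, p])
    rw [← hφ, ← hφ, htq, htq] at h2
    simp only [p, Equiv.apply_symm_apply] at h2
    revert h2
    decide +kernel

end Cfsg.Agent.ImprimMax
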