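import Mathlib

/-!
Stabilisers of uniform partitions in symmetric groups are maximal.
-/

set_option autoImplicit false

namespace Cfsg.Agent.ImprimMax

open MulAction Equiv Equiv.Perm
open scoped Pointwise

variable {Ω ι : Type*}

/-- The permutations preserving the partition given by the fibres of `f`. -/
def fibreStab (f : Ω → ι) : Subgroup (Equiv.Perm Ω) where
  carrier := {g | ∀ x y : Ω, f x = f y ↔ f (g x) = f (g y)}
  mul_mem' {g h} hg hh x y := (hh x y).trans (hg (h x) (h y))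
  one_mem' x y := Iff.rfl
  inv_mem' {g} hg x y := by
    have := hg (g⁻¹ x) (g⁻¹ y)
    rw [Perm.coe_inv, Equiv.apply_symm_apply, Equiv.apply_symm_apply] at this
    exact this.symm

theorem mem_fibreStab {f : Ω → ι} {g : Equiv.Perm Ω} :
    g ∈ fibreStab f ↔ ∀ x y : Ω, f x = f y ↔ f (g x) = f (g y) := Iff.rfl

theorem closure_eq_fibreStab (f : Ω → ι) :
    Subgroup.closure {g : Equiv.Perm Ω | ∀ x y : Ω, f x = f y ↔ f (g x) = f (g y)} = fibreStab f :=
  Subgroup.closure_eq (fibreStab f)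

variable [Finite Ω] [DecidableEq Ω] [DecidableEq ι]

omit [Finite Ω] [DecidableEq ι] in
theorem swap_mem_fibreStab {f : Ω → ι} {x y : Ω} (h : f x = f y) : Equiv.swap x y ∈ fibreStab f := by
  have key : ∀ z, f (Equiv.swap x y z) = f z := fun z => by
    rcases eq_or_ne z x with rfl | hx
    · rw [Equiv.swap_apply_left, h]
    rcases eq_or_ne z y with rfl | hy
    · rw [Equiv.swap_apply_right, h]
    rw [Equiv.swap_apply_of_ne_of_ne hx hy]
  exact fun u v => by rw [key, key]

variable {a : ℕ}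

/-- Labels can be permuted arbitrarily, fixing a point of a fixed label. -/
theorem exists_relabel {f : Ω → ι} (hf : ∀ i, Nat.card {x : Ω // f x = i} = a)
    (σ : Equiv.Perm ι) (x₀ : Ω) (hσ : σ (f x₀) = f x₀) :
    ∃ h ∈ fibreStab f, h x₀ = x₀ ∧ ∀ x, f (h x) = σ (f x) := by
  let e : ∀ i, {x : Ω // f x = i} ≃ Fin a := fun i => Finite.equivFinOfCardEq (hf i)
  let h : Equiv.Perm Ω := (Equiv.sigmaFiberEquiv f).symm.trans
    ((Equiv.sigmaCongr σ fun i => (e i).trans (e (σ i)).symm).trans (Equiv.sigmaFiberEquiv f))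
  have hh : ∀ x, h x = ((e (σ (f x))).symm (e (f x) ⟨x, rfl⟩) : Ω) := fun x => rfl
  have hfh : ∀ x, f (h x) = σ (f x) := fun x => by
    rw [hh]; exact ((e (σ (f x))).symm (e (f x) ⟨x, rfl⟩)).2
  refine ⟨h, fun x y => ?_, ?_, hfh⟩
  · rw [hfh, hfh, σ.injective.eq_iff]
  · rw [hh]
    have : ∀ j, j = f x₀ → ((e j).symm (e (f x₀) ⟨x₀, rfl⟩) : Ω) = x₀ := by
      rintro j rfl
      rw [Equiv.symm_apply_apply]
    exact this _ hσ

omit [DecidableEq Ω] [DecidableEq ι] in
theorem exists_other {f : Ω → ι} (hf : ∀ i, Nat.card {x : Ω // f x = i} = a) (ha : 2 ≤ a) (x : Ω) :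
    ∃ y, f y = f x ∧ y ≠ x := by
  have : 1 < Nat.card {y : Ω // f y = f x} := by rw [hf]; omega
  have := (Finite.one_lt_card_iff_nontrivial).1 this
  obtain ⟨⟨y, hy⟩, hne⟩ := exists_ne (⟨x, rfl⟩ : {y : Ω // f y = f x})
  exact ⟨y, hy, fun e => hne (Subtype.ext e)⟩

/-- The stabiliser of a uniform partition is maximal. -/
theorem isCoatom_fibreStab [Finite ι] [Nontrivial ι] {f : Ω → ι}
    (hf : ∀ i, Nat.card {x : Ω // f x = i} = a) (ha : 2 ≤ a) :
    IsCoatom (fibreStab f) := by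
  have hsurj : ∀ i, ∃ x, f x = i := fun i => by
    have : 0 < Nat.card {x : Ω // f x = i} := by rw [hf]; omega
    obtain ⟨⟨x, hx⟩⟩ := (Finite.card_pos_iff).1 this
    exact ⟨x, hx⟩
  obtain ⟨i₀, i₁, hne⟩ := exists_pair_ne ι
  refine ⟨fun htop => ?_, fun G hG => ?_⟩
  · obtain ⟨x, hx⟩ := hsurj i₀
    obtain ⟨y, hy⟩ := hsurj i₁
    obtain ⟨x', hx', hxx'⟩ := exists_other hf ha x
    have h := mem_fibreStab.1 (htop ▸ Subgroup.mem_top (Equiv.swap x y)) x x'
    rw [Equiv.swap_apply_left, Equiv.swap_apply_of_ne_of_ne hxx'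
      (fun e => hne (by rw [← hx, ← hx', e, hy]))] at h
    exact hne (by rw [← hx, ← hx', ← h.1 hx'.symm, hy])
  have hW := hG.le
  have hmove : ∀ x y : Ω, ∃ g ∈ fibreStab f, g x = y := by
    intro x y
    by_cases hxy : f x = f y
    · exact ⟨_, swap_mem_fibreStab hxy, Equiv.swap_apply_left x y⟩
    obtain ⟨z, hz⟩ := hsurj (f y)
    obtain ⟨σh, hσh, -, hσf⟩ : ∃ h ∈ fibreStab f, True ∧ f (h x) = f y := by
      let e : ∀ i, {x : Ω // f x = i} ≃ Fin a := fun i => Finite.equivFinOfCardEq (hf i)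
      let σ := Equiv.swap (f x) (f y)
      let h : Equiv.Perm Ω := (Equiv.sigmaFiberEquiv f).symm.trans
        ((Equiv.sigmaCongr σ fun i => (e i).trans (e (σ i)).symm).trans (Equiv.sigmaFiberEquiv f))
      have hfh : ∀ x, f (h x) = σ (f x) := fun x =>
        ((e (σ (f x))).symm (e (f x) ⟨x, rfl⟩)).2
      refine ⟨h, fun u v => by rw [hfh, hfh, σ.injective.eq_iff], trivial, ?_⟩
      rw [hfh]; exact Equiv.swap_apply_left _ _
    exact ⟨Equiv.swap (σh x) y * σh, mul_mem (swap_mem_fibreStab hσf) hσh, Equiv.swap_apply_left _ _⟩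
  have hGt : IsPretransitive G Ω := ⟨fun x y => by
    obtain ⟨g, hg, hgx⟩ := hmove x y
    exact ⟨⟨g, hW hg⟩, hgx⟩⟩
  have hprim : IsPreprimitive G Ω := by
    refine { hGt with isTrivialBlock_of_isBlock := fun {B} hB => ?_ }
    by_cases hsub : B.Subsingleton
    · exact Or.inl hsub
    right
    obtain ⟨x, hxB, y, hyB, hxy⟩ := Set.not_subsingleton_iff.1 hsub
    -- elements of `fibreStab f` fixing a point of `B` fix `B`
    have hfix : ∀ h ∈ fibreStab f, ∀ u ∈ B, h u ∈ B → ∀ v ∈ B, h v ∈ B := by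
      intro h hh u hu hu' v hv
      have h1 : (⟨h, hW hh⟩ : G) • B = B := by
        rcases eq_or_ne ((⟨h, hW hh⟩ : G) • B) B with e | e
        · exact e
        · have h2 := hB (g₁ := (⟨h, hW hh⟩ : G)) (g₂ := 1) (by rwa [one_smul])
          rw [one_smul] at h2
          exact absurd hu' (Set.disjoint_left.1 h2 ⟨u, hu, rfl⟩)
      rw [← h1]; exact ⟨v, hv, rfl⟩
    have hfull : ∀ u ∈ B, ∀ v ∈ B, u ≠ v → f u = f v → ∀ w, f w = f u → w ∈ B := by
      intro u hu v hv huv hfuv w hw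
      rcases eq_or_ne w u with rfl | hwu
      · exact hu
      have := hfix _ (swap_mem_fibreStab (show f v = f w by rw [hw, hfuv])) u hu
        (by rwa [Equiv.swap_apply_of_ne_of_ne huv (Ne.symm hwu)]) v hv
      rwa [Equiv.swap_apply_left] at this
    by_cases hcross : ∀ u ∈ B, f u = f x
    · exfalso
      have hBeq : B = {w | f w = f x} := Set.ext fun w =>
        ⟨hcross w, fun hw => hfull x hxB y hyB hxy (hcross y hyB).symm w hw⟩
      have key : ∀ g ∈ G, ∀ u v, f u = f v → f (g u) = f (g v) := by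
        intro g hg u v huv
        obtain ⟨h, hh, hhx⟩ := hmove x u
        obtain ⟨k, hk, hkx⟩ := hmove (g u) x
        have hm : k * g * h ∈ G := mul_mem (mul_mem (hW hk) hg) (hW hh)
        have hxx : (k * g * h) x = x := by simp [hhx, hkx]
        have hv' : h⁻¹ v ∈ B := by
          rw [hBeq]
          show f (h⁻¹ v) = f x
          have h1 := (hh x (h⁻¹ v)).2 (by rw [hhx, Perm.coe_inv, Equiv.apply_symm_apply, huv])
          exact h1.symm
        have h1 : (⟨_, hm⟩ : G) • B = B := by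
          rcases eq_or_ne ((⟨_, hm⟩ : G) • B) B with e | e
          · exact e
          · have h2 := hB (g₁ := (⟨_, hm⟩ : G)) (g₂ := 1) (by rwa [one_smul])
            rw [one_smul] at h2
            exact absurd hxB (Set.disjoint_left.1 h2 ⟨x, hxB, hxx⟩)
        have h2 : (k * g * h) (h⁻¹ v) ∈ B := h1 ▸ ⟨_, hv', rfl⟩
        rw [Perm.mul_apply, Perm.mul_apply, Perm.coe_inv, Equiv.apply_symm_apply, hBeq] at h2
        refine (hk (g u) (g v)).2 ?_
        rw [hkx]; exact (h2 : f (k (g v)) = f x).symm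
      refine hG.not_ge fun g hg u v => ⟨key g hg u v, fun h => ?_⟩
      simpa using key g⁻¹ (inv_mem hg) (g u) (g v) h
    push Not at hcross
    obtain ⟨z, hzB, hzx⟩ := hcross
    -- every label other than that of `x` is met twice by `B`, or once; spread along labels
    have hmeet : ∀ w, f w ≠ f x → w ∈ B := by
      intro w hw
      obtain ⟨h, hh, hhx, hhf⟩ := exists_relabel hf (Equiv.swap (f z) (f w)) x
        (Equiv.swap_apply_of_ne_of_ne (Ne.symm hzx) (Ne.symm hw))
      have h1 : f (h z) = f w := by rw [hhf, Equiv.swap_apply_left]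
      have h2 : h z ∈ B := hfix h hh x hxB (by rwa [hhx]) z hzB
      have h3 := hfix _ (swap_mem_fibreStab h1) x hxB
        (by rwa [Equiv.swap_apply_of_ne_of_ne (fun e => hw (by rw [← h1, e]))
          (fun e => hw (by rw [e]))]) (h z) h2
      rwa [Equiv.swap_apply_left] at h3
    refine Set.eq_univ_iff_forall.2 fun w => ?_
    by_cases hw : f w = f x
    · have hz' := hfix _ (swap_mem_fibreStab hw.symm) z hzB
        (by rwa [Equiv.swap_apply_of_ne_of_ne (fun e => hzx (by rw [e]))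
          (fun e => hzx (by rw [e, hw]))]) x hxB
      rwa [Equiv.swap_apply_left] at hz'
    · exact hmeet w hw
  obtain ⟨x, hx⟩ := hsurj i₀
  obtain ⟨y, hy, hyx⟩ := exists_other hf ha x
  exact subgroup_eq_top_of_isPreprimitive_of_isSwap_mem hprim _ ⟨y, x, hyx, rfl⟩
    (hW (swap_mem_fibreStab hy))

end Cfsg.Agent.ImprimMax
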